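import Groth.Agent.LocCohZ41.Affine
import Groth.Agent.KosCech41.Apply
import Groth.Prelude.Def_Wider
import Mathlib.AlgebraicGeometry.Modules.Tilde

/-!
Colimit Koszul cohomology and cohomology with supports on an affine scheme.
-/

namespace Groth.Agent.LocCohZ41

universe u

set_option autoImplicit false

open CategoryTheory CategoryTheory.Limits AlgebraicGeometry TopologicalSpace Opposite TopCoh49 QC70
  KosCech41

variable {X : Scheme.{u}} (F : X.Modules) {A : Type u} [CommRing A] (ρ : A →+* Γ(X, ⊤)) (fs : List A)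

/-- the family of opens -/
abbrev Ufam (i : ULift.{u} (Fin fs.length)) : X.Opens := X.basicOpen (ρ (fs.get i.down))

theorem exists_inter {n : ℕ} (a : Fin (n + 1) → ULift.{u} (Fin fs.length)) :
    ∃ g : Γ(X, ⊤), inter (X := X.toTopCat) (Ufam ρ fs) a = X.basicOpen g := by
  induction n with
  | zero => exact ⟨ρ (fs.get (a 0).down), le_antisymm (inter_le _ a 0) (le_iInf fun j => by
      rw [Fin.fin_one_eq_zero j])⟩
  | succ n ih =>
    obtain ⟨g, hg⟩ := ih (Fin.tail a)
    refine ⟨g * ρ (fs.get (a 0).down), ?_⟩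
    rw [← Fin.cons_self_tail a, inter_cons, hg, Scheme.basicOpen_mul]
    rfl

/-- sections as modules over the ring of scalars -/
noncomputable abbrev secR : (Opens X)ᵒᵖ ⥤ ModuleCat.{u} A :=
  secFun X F ⋙ ModuleCat.restrictScalars ρ

variable [CompactSpace X] [QuasiSeparatedSpace X] [F.IsQuasicoherent]

/-- the system over a ring of scalars -/
noncomputable def sysR : Sys X.toTopCat (ULift.{u} (Fin fs.length)) A where
  U := Ufam ρ fs
  V₀ := ⊤
  le_top _ := le_top
  F := secR F ρ
  f i := fs.get i.down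
  fs := fs
  f_mem i := List.get_mem fs i.down
  exists_eq g hg := by
    obtain ⟨i, hi⟩ := List.get_of_mem hg
    exact ⟨⟨i⟩, hi⟩
  isoAt k V W hWV hV hW := by
    have hc : IsCompact ((show X.Opens from V) : Set X) := by
      rcases hV with rfl | ⟨n, a, rfl⟩
      · simpa using isCompact_univ
      · obtain ⟨g, hg⟩ := exists_inter ρ fs a
        rw [hg]
        exact isCompact_basicOpen X (by simpa using isCompact_univ) g
    let fV : Γ(X, V) := resO X (le_top : (show X.Opens from V) ≤ ⊤) (ρ (fs.get k.down))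
    have hW' : W = X.basicOpen fV := by
      rw [hW]
      exact (Scheme.basicOpen_res X (ρ (fs.get k.down))
        (homOfLE (le_top : (show X.Opens from V) ≤ ⊤)).op).symm
    subst hW'
    have hloc := QCqs72.isLocAt_of_qcqs F hc (IsQuasiSeparated.of_quasiSeparatedSpace _)
    refine ⟨fun x hx => ?_, fun y => ?_⟩
    · obtain ⟨n, hn⟩ := hloc.eq_zero_of fV x hx
      refine ⟨n, Eq.trans ?_ hn⟩
      change (resO X (le_top : (show X.Opens from V) ≤ ⊤) (ρ (fs.get k.down ^ n)) •
        (show Γ(F, V) from x) : Γ(F, V)) = _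
      rw [map_pow, resO_pow]
    · obtain ⟨n, t, ht⟩ := hloc.exists_of fV y
      refine ⟨n, t, Eq.trans ht ?_⟩
      change _ = (resO X (le_top : X.basicOpen fV ≤ ⊤) (ρ (fs.get k.down ^ n)) •
        (show Γ(F, X.basicOpen fV) from y) : Γ(F, _))
      rw [map_pow, resO_pow, resO_resO]
  bij a := by
    let W : X.Opens := inter (X := X.toTopCat) (Ufam ρ fs) a
    have hW : W ≤ X.basicOpen (ρ (fs.get (a 0).down)) := inter_le _ a 0
    have hu : IsUnit (resO X (le_top : W ≤ ⊤) (ρ (fs.get (a 0).down))) := by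
      rw [← resO_resO (X.basicOpen_le _) hW]
      exact (RingedSpace.isUnit_res_basicOpen _ _).map (X.presheaf.map (homOfLE hW).op).hom
    obtain ⟨v, hv⟩ := hu
    change Function.Bijective fun x : Γ(F, W) => resO X (le_top : W ≤ ⊤) (ρ (fs.get (a 0).down)) • x
    rw [← hv]
    exact MulAction.bijective v

/-- the abelian presheaf -/
noncomputable def secRIso :
    secR F ρ ⋙ forget₂ (ModuleCat.{u} A) AddCommGrpCat.{u} ≅ (Coh.toAb F).obj :=
  NatIso.ofComponents (fun V => Iso.refl _) (fun h => by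
    ext x
    exact rfl)

section Spec

variable (R : Type u) [CommRing R] (gs : List R) (M : Type u) [AddCommGroup M] [Module R M]

/-- the scalars -/
noncomputable abbrev specρ : R →+* Γ(Spec (CommRingCat.of R), ⊤) :=
  (Scheme.ΓSpecIso (CommRingCat.of R)).inv.hom

/-- global sections of the associated sheaf -/
noncomputable def topIsoTilde :
    (secR (tilde (R := CommRingCat.of R) (ModuleCat.of R M)) (specρ R)).obj (op ⊤) ≅ ModuleCat.of R M :=
  (ModuleCat.restrictScalars (specρ R)).mapIso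
      (KosCech41.topIso (Spec (CommRingCat.of R)) (tilde (R := CommRingCat.of R) (ModuleCat.of R M))) ≪≫
    (tilde.isoTop (R := CommRingCat.of R) (ModuleCat.of R M)).symm

theorem iSup_Ufam :
    (⨆ i, Ufam (specρ R) gs i) = LocCoh.puncturedOpen R (Ideal.span {a | a ∈ gs}) := by
  apply Opens.ext
  ext p
  simp only [Opens.coe_iSup, Set.mem_iUnion, SetLike.mem_coe]
  have h : ∀ a : R, p ∈ (Spec (CommRingCat.of R)).basicOpen (specρ R a) ↔ a ∉ p.asIdeal := fun a => by
    have : (Spec (CommRingCat.of R)).basicOpen (specρ R a) = PrimeSpectrum.basicOpen a :=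
      basicOpen_eq_of_affine (R := CommRingCat.of R) a
    rw [this]
    exact PrimeSpectrum.mem_basicOpen a p
  simp only [h]
  change _ ↔ ¬ ((Ideal.span {a | a ∈ gs} : Ideal R) : Set R) ⊆ (p.asIdeal : Ideal R)
  rw [SetLike.coe_subset_coe, Ideal.span_le, Set.not_subset]
  constructor
  · rintro ⟨i, hi⟩
    exact ⟨_, List.get_mem gs i.down, hi⟩
  · rintro ⟨a, ha, hap⟩
    obtain ⟨i, rfl⟩ := List.get_of_mem ha
    exact ⟨⟨i⟩, hap⟩

variable {R} {gs} {M}

theorem nonempty_HZM (i : ℕ) :
    Nonempty (CohIII.koszulHLim gs (ModuleCat.of R M) i ≃+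
      LocCohZ.HZM (Spec (CommRingCat.of R)) (tilde (R := CommRingCat.of R) (ModuleCat.of R M)) i
        (LocCoh.puncturedOpen R (Ideal.span {a | a ∈ gs}))) := by
  let Y := Spec (CommRingCat.of R)
  let G := tilde (R := CommRingCat.of R) (ModuleCat.of R M)
  let S := sysR G (specρ R) gs
  rw [← iSup_Ufam R gs]
  obtain ⟨c⟩ := nonempty_koszulHLim_congr (topIsoTilde R M) gs i
  suffices Nonempty (CohIII.koszulHLim gs (S.F.obj (op S.V₀)) i ≃+
      LocCohZ.HZM Y G i (⨆ j, Ufam (specρ R) gs j)) by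
    obtain ⟨e⟩ := this
    exact ⟨c.symm.trans e⟩
  haveI hsub : ∀ j, Subsingleton (E (X := Y.toTopCat) (Coh.toAb G) (j + 1) (⊤ : Y.Opens)) :=
    fun j => subsingleton_E_top G j
  obtain ⟨⟨e₀⟩, ⟨e₁⟩⟩ := nonempty_restriction S (⨆ j, Ufam (specρ R) gs j)
    (fun j => le_iSup (Ufam (specρ R) gs) j) le_rfl le_top
    (TopCat.Presheaf.isSheaf_of_iso (secRIso G (specρ R)).symm (Coh.toAb G).property)
  match i with
  | 0 => exact ⟨e₀.symm.trans (LocCohZ.sect0Equiv (X := Y.toTopCat) (Coh.toAb G) le_top).symm⟩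
  | 1 =>
    haveI := hsub 0
    obtain ⟨e⟩ := nonempty_one (X := Y.toTopCat) (Coh.toAb G)
      (le_top : (⨆ j, Ufam (specρ R) gs j) ≤ ⊤)
    exact ⟨e₁.symm.trans e⟩
  | p + 2 =>
    haveI := hsub p
    haveI := hsub (p + 1)
    obtain ⟨e⟩ := nonempty_cech_koszul S p
    have hac : ∀ (n : ℕ) (a : Fin (n + 1) → ULift.{u} (Fin gs.length)) (r : ℕ),
        Subsingleton (E (X := Y.toTopCat) (Coh.toAb G) (r + 1)
          (inter (X := Y.toTopCat) (Ufam (specρ R) gs) a)) := fun n a r => by
      obtain ⟨g, hg⟩ := exists_inter (specρ R) gs a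
      refine CechComp71.subsingleton_E_affine G ?_ r
      exact Eq.mpr (congrArg IsAffineOpen hg) ((isAffineOpen_top Y).basicOpen g)
    obtain ⟨a⟩ := cech_equiv (U := Ufam (specρ R) gs) (p + 1) (Coh.toAb G) hac
    let ι : CohTop.cechH (S.F ⋙ forget₂ (ModuleCat.{u} R) AddCommGrpCat.{u}) S.U (p + 1) ≅
        CohTop.cechH (Coh.toAb G).obj (Ufam (specρ R) gs) (p + 1) :=
      (HomologicalComplex.homologyFunctor AddCommGrpCat.{u} (ComplexShape.up ℕ) (p + 1)).mapIso
        ((cechComplexFunctor (A := AddCommGrpCat.{u}) S.U).mapIso (secRIso G (specρ R)))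
    exact ⟨((e.symm.trans ι.addCommGroupIsoToAddEquiv).trans a).trans
      (AddEquiv.ofBijective _ (delta_bijective (X := Y.toTopCat) (Coh.toAb G)
        (le_top : (⨆ j, Ufam (specρ R) gs j) ≤ ⊤) (p + 1)))⟩

end Spec

end Groth.Agent.LocCohZ41
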