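import Groth.Prelude.Def_LocCohZ
import Groth.Agent.TopCoh49.Coh
import Groth.Agent.CechComp71.Scheme

/-!
Cohomology with supports on an affine scheme.
-/

namespace Groth.Agent.LocCohZ41

universe u

set_option autoImplicit false

open CategoryTheory CategoryTheory.Limits TopologicalSpace Opposite AlgebraicGeometry TopCoh49
open CategoryTheory.Abelian

variable {X : TopCat.{u}} (F : CohTop.Ab X) {W V : Opens X} (h : W ≤ V)

/-- restriction of classes -/
noncomputable abbrev pre (n : ℕ) : E F n V →+ E F n W :=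
  (Ext.mk₀ (LocCohZ.zqSeq h).f).precomp F (zero_add n)

theorem exists_pre (i : ℕ) (x : E F i W) (hx : LocCohZ.delta F i h x = 0) :
    ∃ y : E F i V, pre F h i y = x :=
  Ext.contravariant_sequence_exact₁ (LocCohZ.zqSeq_shortExact h) F x (add_comm 1 i) hx

theorem delta_surjective (i : ℕ) [Subsingleton (E F (i + 1) V)] :
    Function.Surjective (LocCohZ.delta F i h) := fun z =>
  Ext.contravariant_sequence_exact₃ (LocCohZ.zqSeq_shortExact h) F z
    (Subsingleton.elim (α := E F (i + 1) V) _ _) (add_comm 1 i)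

theorem delta_bijective (i : ℕ) [Subsingleton (E F i V)] [Subsingleton (E F (i + 1) V)] :
    Function.Bijective (LocCohZ.delta F i h) := by
  refine ⟨(injective_iff_map_eq_zero _).2 fun x hx => ?_, delta_surjective F h i⟩
  obtain ⟨y, rfl⟩ := exists_pre F h i x hx
  rw [Subsingleton.elim (α := E F i V) y 0, map_zero]; rfl

theorem delta_pre (i : ℕ) (y : E F i V) : LocCohZ.delta F i h (pre F h i y) = 0 :=
  ShortComplex.ShortExact.extClass_comp_assoc (LocCohZ.zqSeq_shortExact h) y (h := add_comm 1 i)

/-- degree one as a cokernel -/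
theorem nonempty_one [Subsingleton (E F 1 V)] :
    Nonempty ((F.obj.obj (op W) : Type u) ⧸ (F.obj.map (homOfLE h).op).hom.range ≃+
      LocCohZ.HZ F 1 h) := by
  let Φ : (F.obj.obj (op W) : Type u) →+ LocCohZ.HZ F 1 h :=
    (LocCohZ.delta F 0 h).comp (E₀ F W).symm.toAddMonoidHom
  have hs : Function.Surjective Φ := (delta_surjective F h 0).comp (E₀ F W).symm.surjective
  have hk : Φ.ker = (F.obj.map (homOfLE h).op).hom.range := by
    ext s
    constructor
    · intro hs'
      obtain ⟨y, hy⟩ := exists_pre F h 0 _ hs'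
      exact ⟨E₀ F V y, ((E₀_eres F h y).symm.trans (congrArg (E₀ F W) hy)).trans
        ((E₀ F W).apply_symm_apply s)⟩
    · rintro ⟨t, rfl⟩
      change LocCohZ.delta F 0 h ((E₀ F W).symm _) = 0
      rw [show (E₀ F W).symm ((F.obj.map (homOfLE h).op).hom t) = pre F h 0 ((E₀ F V).symm t) from
        (E₀ F W).injective (((E₀ F W).apply_symm_apply _).trans
          (((congrArg (F.obj.map (homOfLE h).op) ((E₀ F V).apply_symm_apply t))).symm.trans
            (E₀_eres F h _).symm))]
      exact delta_pre F h 0 _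
  exact ⟨(QuotientAddGroup.quotientAddEquivOfEq hk.symm).trans
    (QuotientAddGroup.quotientKerEquivOfSurjective Φ hs)⟩

theorem subsingleton_E_top {Y : Scheme.{u}} [IsAffine Y] (M : Y.Modules) [M.IsQuasicoherent]
    (i : ℕ) : Subsingleton (E (X := Y.toTopCat) (Coh.toAb M) (i + 1) (⊤ : Y.Opens)) :=
  CechComp71.subsingleton_E_affine M (isAffineOpen_top Y) i

end Groth.Agent.LocCohZ41
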